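import Mathlib

/-!
# Kähler differentials of a power series ring over a perfect field of characteristic `p`

`Ω_{k[[X_i]]/k}` is free on the `d X_i` when `k` is perfect of characteristic `p > 0`.
-/

universe u
set_option autoImplicit false
open MvPowerSeries

namespace Groth.Agent.H8.PSKaehler

section decomp

variable {σ : Type*} [Fintype σ] [DecidableEq σ] {k : Type u} [CommRing k] (p : ℕ)

/-- the component of `g` of exponents congruent to `r` mod `p` (exponents divided by `p`). -/
noncomputable def comp (g : MvPowerSeries σ k) (r : σ →₀ ℕ) : MvPowerSeries σ k :=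
  fun q => coeff (p • q + r) g

theorem coeff_comp (g : MvPowerSeries σ k) (r q : σ →₀ ℕ) :
    coeff q (comp p g r) = coeff (p • q + r) g := rfl

/-- the box `[0, p-1]^σ` -/
noncomputable def box : σ →₀ ℕ := Finsupp.equivFunOnFinite.symm (fun _ => p - 1)

theorem box_apply (i : σ) : box (σ := σ) p i = p - 1 := rfl

theorem decomp (hp : p ≠ 0) (g : MvPowerSeries σ k) :
    g = ∑ r ∈ Finset.Iic (box (σ := σ) p), monomial r (1 : k) * expand p hp (comp p g r) := by
  classical
  ext d
  rw [map_sum]
  simp only [coeff_monomial_mul, one_mul]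
  obtain ⟨r₀, hr₀⟩ : ∃ r₀ : σ →₀ ℕ, ∀ i, r₀ i = d i % p :=
    ⟨Finsupp.mapRange (· % p) (Nat.zero_mod p) d, fun i => Finsupp.mapRange_apply ..⟩
  obtain ⟨q₀, hq₀⟩ : ∃ q₀ : σ →₀ ℕ, ∀ i, q₀ i = d i / p :=
    ⟨Finsupp.mapRange (· / p) (Nat.zero_div p) d, fun i => Finsupp.mapRange_apply ..⟩
  have hr₀d : r₀ ≤ d := fun i => by
    rw [hr₀]; exact Nat.mod_le _ _
  have hdq : d - r₀ = p • q₀ := by
    ext i
    rw [Finsupp.tsub_apply, Finsupp.smul_apply, hr₀, hq₀, smul_eq_mul]
    exact Nat.sub_eq_of_eq_add (Nat.div_add_mod (d i) p).symm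
  have hqr : p • q₀ + r₀ = d := by
    rw [← hdq]; exact tsub_add_cancel_of_le hr₀d
  have hr₀box : r₀ ∈ Finset.Iic (box (σ := σ) p) := by
    rw [Finset.mem_Iic]
    intro i
    rw [hr₀, box_apply]
    exact Nat.le_pred_of_lt (Nat.mod_lt _ (Nat.pos_of_ne_zero hp))
  rw [Finset.sum_eq_single r₀]
  · rw [if_pos hr₀d, hdq, coeff_expand_smul, coeff_comp, hqr]
  · intro r hr hne
    split_ifs with hrd
    · obtain ⟨i, hi⟩ : ∃ i, r i ≠ r₀ i := by
        by_contra hcon
        push Not at hcon
        exact hne (Finsupp.ext hcon)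
      apply coeff_expand_of_not_dvd p hp _ (i := i)
      intro hdvd
      apply hi
      have h1 : r i ≤ p - 1 := by
        have := (Finset.mem_Iic.mp hr) i
        rwa [box_apply] at this
      have h2 : r i ≤ d i := hrd i
      rw [Finsupp.tsub_apply] at hdvd
      obtain ⟨t, ht⟩ := hdvd
      have h3 : d i = r i + p * t := by omega
      have hppos := Nat.pos_of_ne_zero hp
      rw [hr₀, h3, Nat.add_mul_mod_self_left, Nat.mod_eq_of_lt (by omega)]
    · rfl
  · intro h; exact absurd hr₀box h

end decomp

section span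

variable (σ : Type*) [Fintype σ] (k : Type u) [Field k]

/-- the span of the `d X_i` -/
noncomputable def dXspan : Submodule (MvPowerSeries σ k) (Ω[MvPowerSeries σ k⁄k]) :=
  Submodule.span _ (Set.range fun i : σ => KaehlerDifferential.D k (MvPowerSeries σ k) (X i))

/-- elements whose differential is a combination of the `d X_i` -/
noncomputable def goodSub : Subalgebra k (MvPowerSeries σ k) where
  carrier := {a | KaehlerDifferential.D k (MvPowerSeries σ k) a ∈ dXspan σ k}
  mul_mem' := by
    intro a b ha hb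
    show KaehlerDifferential.D k (MvPowerSeries σ k) (a * b) ∈ dXspan σ k
    rw [Derivation.leibniz]
    exact add_mem (Submodule.smul_mem _ _ hb) (Submodule.smul_mem _ _ ha)
  add_mem' := by
    intro a b ha hb
    show KaehlerDifferential.D k (MvPowerSeries σ k) (a + b) ∈ dXspan σ k
    rw [map_add]
    exact add_mem ha hb
  algebraMap_mem' := by
    intro c
    show KaehlerDifferential.D k (MvPowerSeries σ k) (algebraMap k _ c) ∈ dXspan σ k
    rw [Derivation.map_algebraMap]
    exact zero_mem _

theorem mem_goodSub_iff (a : MvPowerSeries σ k) :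
    a ∈ goodSub σ k ↔ KaehlerDifferential.D k (MvPowerSeries σ k) a ∈ dXspan σ k := Iff.rfl

theorem X_mem (i : σ) : (X i : MvPowerSeries σ k) ∈ goodSub σ k :=
  Submodule.subset_span ⟨i, rfl⟩

theorem coe_mem (φ : MvPolynomial σ k) : (φ : MvPowerSeries σ k) ∈ goodSub σ k := by
  induction φ using MvPolynomial.induction_on with
  | C a =>
    rw [MvPolynomial.coe_C]
    have h : (C a : MvPowerSeries σ k) = algebraMap k (MvPowerSeries σ k) a := by
      simp [MvPowerSeries.algebraMap_apply]
    rw [h]
    exact (goodSub σ k).algebraMap_mem a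
  | add φ ψ hφ hψ =>
    rw [MvPolynomial.coe_add]
    exact add_mem hφ hψ
  | mul_X φ i hφ =>
    rw [MvPolynomial.coe_mul, MvPolynomial.coe_X]
    exact mul_mem hφ (X_mem σ k i)

theorem pow_p_mem (p : ℕ) [CharP k p] (c : MvPowerSeries σ k) : c ^ p ∈ goodSub σ k := by
  rw [mem_goodSub_iff, Derivation.leibniz_pow, ← Nat.cast_smul_eq_nsmul k, CharP.cast_eq_zero,
    zero_smul]
  exact zero_mem _

theorem expand_mem (p : ℕ) [hpf : Fact p.Prime] [CharP k p] [PerfectRing k p]
    (ψ : MvPowerSeries σ k) :
    expand p hpf.out.ne_zero ψ ∈ goodSub σ k := by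
  have h : expand p hpf.out.ne_zero ψ =
      (map ((frobeniusEquiv k p).symm : k →+* k) ψ) ^ p := by
    rw [← map_frobenius_expand p hpf.out.ne_zero, map_expand]
    congr 1
    ext d
    simp [coeff_map, frobenius_apply_frobeniusEquiv_symm]
  rw [h]
  exact pow_p_mem σ k p _

theorem mem_goodSub (p : ℕ) [hpf : Fact p.Prime] [CharP k p] [PerfectRing k p]
    (g : MvPowerSeries σ k) : g ∈ goodSub σ k := by
  classical
  rw [decomp p hpf.out.ne_zero g]
  refine Subalgebra.sum_mem _ fun r _ => mul_mem ?_ (expand_mem σ k p _)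
  rw [← MvPolynomial.coe_monomial]
  exact coe_mem σ k _

variable [DecidableEq σ]

/-- `Ω_{k[[X]]/k}` is free on the `d X_i`. -/
theorem bijective_linearCombination (p : ℕ) [hpf : Fact p.Prime] [CharP k p] [PerfectRing k p] :
    Function.Bijective (Fintype.linearCombination (MvPowerSeries σ k)
      (fun i : σ => KaehlerDifferential.D k (MvPowerSeries σ k) (X i))) := by
  constructor
  · rw [injective_iff_map_eq_zero]
    intro c hc
    funext j
    have := congrArg (pderiv k j).liftKaehlerDifferential hc
    rw [Fintype.linearCombination_apply, map_sum, map_zero] at this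
    simp only [map_smul, Derivation.liftKaehlerDifferential_comp_D, pderiv_X, smul_eq_mul] at this
    rw [Finset.sum_eq_single j] at this
    · simpa using this
    · intro i _ hij
      rw [Pi.single_eq_of_ne hij, mul_zero]
    · intro h
      exact absurd (Finset.mem_univ j) h
  · rw [← LinearMap.range_eq_top, Fintype.range_linearCombination, eq_top_iff,
      ← KaehlerDifferential.span_range_derivation, Submodule.span_le]
    rintro _ ⟨g, rfl⟩
    exact mem_goodSub σ k p g

theorem free_kaehler (p : ℕ) [hpf : Fact p.Prime] [CharP k p] [PerfectRing k p] : Module.Free (MvPowerSeries σ k) (Ω[MvPowerSeries σ k⁄k]) :=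
  Module.Free.of_equiv (LinearEquiv.ofBijective _ (bijective_linearCombination σ k p))

theorem finite_kaehler (p : ℕ) [hpf : Fact p.Prime] [CharP k p] [PerfectRing k p] : Module.Finite (MvPowerSeries σ k) (Ω[MvPowerSeries σ k⁄k]) :=
  Module.Finite.equiv (LinearEquiv.ofBijective _ (bijective_linearCombination σ k p))

end span

end Groth.Agent.H8.PSKaehler
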