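import Mathlib
import Groth.Agent.Lib.Helper8.T1BC.Ext1

/-!
# `Ext` of the Kähler differentials of a hypersurface quotient `P/(f)` with `Ω_{P/k}` projective
-/

universe u
set_option autoImplicit false
open CategoryTheory Abelian TensorProduct

namespace Groth.Agent.H8.PSKaehler

section ext2

variable {R : Type u} [CommRing R] {C F Ω Y : Type u}
  [AddCommGroup C] [Module R C] [AddCommGroup F] [Module R F]
  [AddCommGroup Ω] [Module R Ω] [AddCommGroup Y] [Module R Y]

/-- `Ext²(Ω, Y) = 0` when `Ω` has a projective resolution of length one. -/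
theorem ext_two_subsingleton [Module.Projective R F] [Module.Projective R C]
    (i : C →ₗ[R] F) (π : F →ₗ[R] Ω) (hi : Function.Injective i) (hπ : Function.Surjective π)
    (hex : Function.Exact i π) :
    Subsingleton (Ext.{u} (ModuleCat.of R Ω) (ModuleCat.of R Y) 2) := by
  let S : ShortComplex (ModuleCat.{u} R) :=
    ModuleCat.shortComplexOfCompEqZero i π hex.linearMap_comp_eq_zero
  have hS : S.ShortExact := ModuleCat.shortComplex_shortExact S hex hi hπ
  haveI : Projective S.X₂ := (ModuleCat.of R F).projective_of_categoryTheory_projective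
  haveI : Projective S.X₁ := (ModuleCat.of R C).projective_of_categoryTheory_projective
  let YY : ModuleCat.{u} R := ModuleCat.of R Y
  refine subsingleton_of_forall_eq 0 fun (x₃ : Ext.{u} S.X₃ YY 2) => ?_
  have h0 : (Ext.mk₀ S.g).comp x₃ (zero_add 2) = 0 := Ext.eq_zero_of_projective _
  obtain ⟨x₁, hx₁⟩ := Ext.contravariant_sequence_exact₃ hS YY x₃ h0 (rfl : 1 + 1 = 2)
  rw [← hx₁, Ext.eq_zero_of_projective x₁, Ext.comp_zero]

end ext2

section hyp

variable (k : Type u) [CommRing k] (P : Type u) [CommRing P] [Algebra k P] (f : P)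

/-- the values `D f` of the `k`-derivations of `P` form an ideal -/
theorem mem_span_deriv_iff (x : P) :
    x ∈ Ideal.span {g | ∃ D : Derivation k P P, g = D f} ↔ ∃ D : Derivation k P P, x = D f := by
  constructor
  · intro hx
    induction hx using Submodule.span_induction with
    | mem x hx => exact hx
    | zero => exact ⟨0, by simp⟩
    | add x y _ _ hx hy =>
      obtain ⟨D, rfl⟩ := hx
      obtain ⟨E, rfl⟩ := hy
      exact ⟨D + E, by simp⟩
    | smul a x _ hx =>
      obtain ⟨D, rfl⟩ := hx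
      exact ⟨a • D, by simp⟩
  · rintro ⟨D, rfl⟩
    exact Ideal.subset_span ⟨D, rfl⟩

theorem main [Module.Projective P (Ω[P⁄k])]
    (hinj : ∀ r : P ⧸ Ideal.span {f},
      (∀ D : Derivation k P P, r * Ideal.Quotient.mk (Ideal.span {f}) (D f) = 0) → r = 0) :
    Subsingleton (Ext.{u} (ModuleCat.of (P ⧸ Ideal.span {f}) (Ω[(P ⧸ Ideal.span {f})⁄k]))
        (ModuleCat.of (P ⧸ Ideal.span {f}) (P ⧸ Ideal.span {f})) 2) ∧
    Nonempty (Ext.{u} (ModuleCat.of (P ⧸ Ideal.span {f}) (Ω[(P ⧸ Ideal.span {f})⁄k]))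
        (ModuleCat.of (P ⧸ Ideal.span {f}) (P ⧸ Ideal.span {f})) 1 ≃ₗ[P ⧸ Ideal.span {f}]
      ((P ⧸ Ideal.span {f}) ⧸ Ideal.map (Ideal.Quotient.mk (Ideal.span {f}))
        (Ideal.span {g | ∃ D : Derivation k P P, g = D f}))) := by
  classical
  let π : (P ⧸ Ideal.span {f}) ⊗[P] Ω[P⁄k] →ₗ[P ⧸ Ideal.span {f}] Ω[(P ⧸ Ideal.span {f})⁄k] :=
    KaehlerDifferential.mapBaseChange k P (P ⧸ Ideal.span {f})
  let e : (P ⧸ Ideal.span {f}) ⊗[P] Ω[P⁄k] :=
    (1 : P ⧸ Ideal.span {f}) ⊗ₜ[P] KaehlerDifferential.D k P f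
  let i : (P ⧸ Ideal.span {f}) →ₗ[P ⧸ Ideal.span {f}] (P ⧸ Ideal.span {f}) ⊗[P] Ω[P⁄k] :=
    LinearMap.toSpanSingleton (P ⧸ Ideal.span {f}) _ e
  have hi_apply : ∀ r, i r = r • e := fun r => LinearMap.toSpanSingleton_apply _ _ _ r
  have hsurjmk : Function.Surjective (algebraMap P (P ⧸ Ideal.span {f})) :=
    Ideal.Quotient.mk_surjective
  have hf0 : algebraMap P (P ⧸ Ideal.span {f}) f = 0 :=
    Ideal.Quotient.eq_zero_iff_mem.mpr (Ideal.mem_span_singleton_self f)
  have hπ : Function.Surjective π :=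
    KaehlerDifferential.mapBaseChange_surjective k P (P ⧸ Ideal.span {f}) hsurjmk
  have hπe : π e = 0 := by
    show KaehlerDifferential.mapBaseChange k P (P ⧸ Ideal.span {f})
      ((1 : P ⧸ Ideal.span {f}) ⊗ₜ[P] KaehlerDifferential.D k P f) = 0
    rw [KaehlerDifferential.mapBaseChange_tmul, KaehlerDifferential.map_D, hf0, map_zero,
      smul_zero]
  have hex : Function.Exact i π := by
    intro x
    constructor
    · intro hx
      obtain ⟨c, rfl⟩ := (KaehlerDifferential.exact_kerCotangentToTensor_mapBaseChange k P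
        (P ⧸ Ideal.span {f}) hsurjmk x).mp hx
      obtain ⟨⟨y, hy⟩, rfl⟩ := Ideal.toCotangent_surjective _ c
      rw [KaehlerDifferential.kerCotangentToTensor_toCotangent]
      have hy' : y ∈ Ideal.span {f} := by
        rwa [Ideal.Quotient.algebraMap_eq, Ideal.mk_ker] at hy
      obtain ⟨a, rfl⟩ := Ideal.mem_span_singleton'.mp hy'
      refine ⟨algebraMap P (P ⧸ Ideal.span {f}) a, ?_⟩
      rw [hi_apply]
      show algebraMap P (P ⧸ Ideal.span {f}) a • e =
        (1 : P ⧸ Ideal.span {f}) ⊗ₜ[P] KaehlerDifferential.D k P (a * f)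
      rw [Derivation.leibniz, TensorProduct.tmul_add, TensorProduct.tmul_smul,
        TensorProduct.tmul_smul, ← algebraMap_smul (P ⧸ Ideal.span {f}) a,
        ← algebraMap_smul (P ⧸ Ideal.span {f}) f, hf0, zero_smul, add_zero]
    · rintro ⟨r, rfl⟩
      rw [hi_apply, map_smul, hπe, smul_zero]
  have hi : Function.Injective i := by
    rw [injective_iff_map_eq_zero]
    intro r hr
    apply hinj
    intro D'
    have h1 := congrArg (LinearMap.liftBaseChange (P ⧸ Ideal.span {f})
      ((Algebra.linearMap P (P ⧸ Ideal.span {f})) ∘ₗ D'.liftKaehlerDifferential)) hr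
    rw [hi_apply, map_smul, map_zero, LinearMap.liftBaseChange_tmul, one_smul,
      LinearMap.comp_apply, Derivation.liftKaehlerDifferential_comp_D, smul_eq_mul] at h1
    exact h1
  obtain ⟨q, hqsurj, hqker⟩ := Groth.Agent.H8.T1BC.exists_ext_one_presentation
    (Y := P ⧸ Ideal.span {f}) i π hi hπ hex
  let q' : (P ⧸ Ideal.span {f}) →ₗ[P ⧸ Ideal.span {f}]
      Ext.{u} (ModuleCat.of (P ⧸ Ideal.span {f}) (Ω[(P ⧸ Ideal.span {f})⁄k]))
        (ModuleCat.of (P ⧸ Ideal.span {f}) (P ⧸ Ideal.span {f})) 1 :=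
    q ∘ₗ (LinearMap.ringLmapEquivSelf (P ⧸ Ideal.span {f}) (P ⧸ Ideal.span {f})
      (P ⧸ Ideal.span {f})).symm.toLinearMap
  have hq'surj : Function.Surjective q' := hqsurj.comp (LinearEquiv.surjective _)
  have hker : LinearMap.ker q' = Ideal.map (Ideal.Quotient.mk (Ideal.span {f}))
      (Ideal.span {g | ∃ D : Derivation k P P, g = D f}) := by
    ext r
    rw [LinearMap.mem_ker]
    show q ((LinearMap.ringLmapEquivSelf (P ⧸ Ideal.span {f}) (P ⧸ Ideal.span {f})
      (P ⧸ Ideal.span {f})).symm r) = 0 ↔ _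
    rw [hqker]
    constructor
    · rintro ⟨ψ, hψ⟩
      have h1 : ψ e = r := by
        have h2 := LinearMap.congr_fun hψ 1
        rw [LinearMap.comp_apply, hi_apply, one_smul] at h2
        rw [h2]
        simp [LinearMap.ringLmapEquivSelf]
      obtain ⟨ψ'', hψ''⟩ := Module.projective_lifting_property
        (Algebra.linearMap P (P ⧸ Ideal.span {f}))
        ((LinearMap.liftBaseChangeEquiv (P ⧸ Ideal.span {f})).symm ψ) hsurjmk
      refine (Ideal.mem_map_iff_of_surjective _ Ideal.Quotient.mk_surjective).mpr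
        ⟨(ψ''.compDer (KaehlerDifferential.D k P)) f, Ideal.subset_span ⟨_, rfl⟩, ?_⟩
      have h3 := LinearMap.congr_fun hψ'' (KaehlerDifferential.D k P f)
      rw [← h1]
      exact h3
    · intro hr
      obtain ⟨x, hx, rfl⟩ :=
        (Ideal.mem_map_iff_of_surjective _ Ideal.Quotient.mk_surjective).mp hr
      obtain ⟨D', rfl⟩ := (mem_span_deriv_iff k P f x).mp hx
      refine ⟨LinearMap.liftBaseChange (P ⧸ Ideal.span {f})
        ((Algebra.linearMap P (P ⧸ Ideal.span {f})) ∘ₗ D'.liftKaehlerDifferential), ?_⟩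
      apply LinearMap.ext_ring
      rw [LinearMap.comp_apply, hi_apply, one_smul, LinearMap.liftBaseChange_tmul, one_smul,
        LinearMap.comp_apply, Derivation.liftKaehlerDifferential_comp_D]
      simp [LinearMap.ringLmapEquivSelf]
  refine ⟨ext_two_subsingleton (Y := P ⧸ Ideal.span {f}) i π hi hπ hex, ⟨?_⟩⟩
  exact (LinearMap.quotKerEquivOfSurjective q' hq'surj).symm.trans
    (Submodule.quotEquivOfEq _ _ hker)

end hyp

end Groth.Agent.H8.PSKaehler
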