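import Groth.Prelude
import Groth.Agent.Lib.Helper8.PSKaehler.Basis
import Groth.Agent.Lib.Helper8.PSKaehler.Hyp
import Groth.Agent.Lib.Helper1.CMFlat
import Groth.Agent.Lib.Helper6.PSCotC
import Groth.Agent.Lib.Helper6.DepthKer
import Groth.Agent.Lib.Helper6.DepthLocalHom
import Groth.Agent.Lib.Helper6.DepthKit

/-!
# `Ext` of the Kähler differentials of an isolated hypersurface singularity `k[[x,y,z]]/(f)`, char `p`
-/

universe u
set_option autoImplicit false
open CategoryTheory MvPowerSeries IsLocalRing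

namespace Groth.Agent.H8.PSKaehler

section main

variable (k : Type u) [Field k]

theorem torsion_free_quot (f : MvPowerSeries (Fin 3) k)
    (hf : f ∈ maximalIdeal (MvPowerSeries (Fin 3) k)) (hf0 : f ≠ 0) (N : ℕ)
    (r : MvPowerSeries (Fin 3) k)
    (hr : ∀ a ∈ maximalIdeal (MvPowerSeries (Fin 3) k) ^ N, r * a ∈ Ideal.span {f}) :
    r ∈ Ideal.span {f} := by
  haveI : IsRegularLocalRing (MvPowerSeries (Fin 3) k) :=
    Groth.Agent.H6.PSCot.isRegularLocalRing_mvPowerSeries 3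
  have hdim : ringKrullDim (MvPowerSeries (Fin 3) k) = ((3 : ℕ) : WithBot ℕ∞) :=
    le_antisymm (Groth.Agent.H6.PSCot.ringKrullDim_mvPowerSeries_le 3)
      (Groth.Agent.H6.PSCot.ringKrullDim_mvPowerSeries_ge 3)
  have hdepth : LocCoh.depth (MvPowerSeries (Fin 3) k) (MvPowerSeries (Fin 3) k) = (3 : ℕ) :=
    Groth.Agent.H1.AB.depth_eq_of_isRegularLocalRing 3 hdim
  have hreg : IsSMulRegular (MvPowerSeries (Fin 3) k) f := by
    intro a b hab
    exact mul_left_cancel₀ hf0 hab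
  have hshift := Groth.Agent.H6.Depth.idealDepth_quotSMulTop_add_one
    (maximalIdeal (MvPowerSeries (Fin 3) k)) (MvPowerSeries (Fin 3) k) f hf hreg
  have h1 : (1 : ℕ∞) ≤ LocCoh.idealDepth (maximalIdeal (MvPowerSeries (Fin 3) k))
      (QuotSMulTop f (MvPowerSeries (Fin 3) k)) := by
    have h3 : LocCoh.idealDepth (maximalIdeal (MvPowerSeries (Fin 3) k))
        (MvPowerSeries (Fin 3) k) = (3 : ℕ) := hdepth
    rw [h3] at hshift
    by_contra hlt
    rw [not_le, ENat.lt_one_iff_eq_zero] at hlt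
    rw [hlt] at hshift
    norm_num at hshift
  have htors : DRing.torsionSub (maximalIdeal (MvPowerSeries (Fin 3) k))
      (QuotSMulTop f (MvPowerSeries (Fin 3) k)) = ⊥ :=
    (Groth.Agent.H6.Depth.subsingleton_H_zero_iff _ _).mp
      ((Groth.Agent.H6.Depth.one_le_idealDepth_iff _ _).mp h1)
  have hmem : (Submodule.Quotient.mk r : QuotSMulTop f (MvPowerSeries (Fin 3) k)) ∈
      DRing.torsionSub (maximalIdeal (MvPowerSeries (Fin 3) k))
        (QuotSMulTop f (MvPowerSeries (Fin 3) k)) := by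
    refine ⟨N, fun a ha => ?_⟩
    rw [← Submodule.Quotient.mk_smul, Submodule.Quotient.mk_eq_zero]
    obtain ⟨c, hc⟩ := Ideal.mem_span_singleton'.mp (hr a ha)
    rw [Submodule.mem_smul_pointwise_iff_exists]
    exact ⟨c, Submodule.mem_top, by
      rw [smul_eq_mul, smul_eq_mul, mul_comm f c, hc, mul_comm]⟩
  rw [htors, Submodule.mem_bot, Submodule.Quotient.mk_eq_zero,
    Submodule.mem_smul_pointwise_iff_exists] at hmem
  obtain ⟨c, -, hc⟩ := hmem
  exact Ideal.mem_span_singleton'.mpr ⟨c, by rw [mul_comm]; exact hc⟩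

theorem main3 [IsAlgClosed k] (p : ℕ) [Fact p.Prime] [CharP k p]
    (f : MvPowerSeries (Fin 3) k) (hf : f ∈ IsLocalRing.maximalIdeal (MvPowerSeries (Fin 3) k))
    (hiso : ∃ N : ℕ, IsLocalRing.maximalIdeal (MvPowerSeries (Fin 3) k) ^ N ≤
      Ideal.span {f} ⊔ Ideal.span {g | ∃ D : Derivation k (MvPowerSeries (Fin 3) k) (MvPowerSeries (Fin 3) k), g = D f}) :
    Subsingleton (Abelian.Ext.{u}
        (ModuleCat.of (MvPowerSeries (Fin 3) k ⧸ Ideal.span {f})
          (KaehlerDifferential k (MvPowerSeries (Fin 3) k ⧸ Ideal.span {f})))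
        (ModuleCat.of (MvPowerSeries (Fin 3) k ⧸ Ideal.span {f}) (MvPowerSeries (Fin 3) k ⧸ Ideal.span {f})) 2) ∧
      Nonempty (Abelian.Ext.{u}
        (ModuleCat.of (MvPowerSeries (Fin 3) k ⧸ Ideal.span {f})
          (KaehlerDifferential k (MvPowerSeries (Fin 3) k ⧸ Ideal.span {f})))
        (ModuleCat.of (MvPowerSeries (Fin 3) k ⧸ Ideal.span {f}) (MvPowerSeries (Fin 3) k ⧸ Ideal.span {f})) 1 ≃ₗ[MvPowerSeries (Fin 3) k ⧸ Ideal.span {f}]
        ((MvPowerSeries (Fin 3) k ⧸ Ideal.span {f}) ⧸ Ideal.map (Ideal.Quotient.mk (Ideal.span {f}))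
          (Ideal.span {g | ∃ D : Derivation k (MvPowerSeries (Fin 3) k) (MvPowerSeries (Fin 3) k), g = D f}))) := by
  haveI := free_kaehler (Fin 3) k p
  obtain ⟨N, hN⟩ := hiso
  have hf0 : f ≠ 0 := by
    rintro rfl
    have hJ : Ideal.span {g | ∃ D : Derivation k (MvPowerSeries (Fin 3) k)
        (MvPowerSeries (Fin 3) k), g = D (0 : MvPowerSeries (Fin 3) k)} = ⊥ := by
      rw [Ideal.span_eq_bot]
      rintro x ⟨D, rfl⟩
      exact map_zero D
    rw [hJ, Ideal.span_singleton_eq_bot.mpr rfl, sup_bot_eq, le_bot_iff] at hN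
    have hX : (X 0 : MvPowerSeries (Fin 3) k) ∈ maximalIdeal (MvPowerSeries (Fin 3) k) := by
      rw [Groth.Agent.H4.MvPSVars.maximalIdeal_eq_span_range_X]
      exact Ideal.subset_span ⟨0, rfl⟩
    have h2 : (X 0 : MvPowerSeries (Fin 3) k) ^ N ∈
        maximalIdeal (MvPowerSeries (Fin 3) k) ^ N := Ideal.pow_mem_pow hX N
    rw [hN, Ideal.mem_bot] at h2
    have h3 : (X 0 : MvPowerSeries (Fin 3) k) = 0 := IsReduced.eq_zero _ ⟨N, h2⟩
    have h4 := congrArg (coeff (Finsupp.single 0 1)) h3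
    rw [coeff_index_single_self_X, map_zero] at h4
    exact one_ne_zero h4
  apply Groth.Agent.H8.PSKaehler.main k (MvPowerSeries (Fin 3) k) f
  intro r hr
  obtain ⟨r', rfl⟩ := Ideal.Quotient.mk_surjective r
  rw [Ideal.Quotient.eq_zero_iff_mem]
  apply torsion_free_quot k f hf hf0 N r'
  intro a ha
  obtain ⟨u, hu, v, hv, rfl⟩ := Submodule.mem_sup.mp (hN ha)
  obtain ⟨D', rfl⟩ := (mem_span_deriv_iff k (MvPowerSeries (Fin 3) k) f v).mp hv
  rw [mul_add]
  refine add_mem (Ideal.mul_mem_left _ _ hu) ?_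
  have := hr D'
  rwa [← map_mul, Ideal.Quotient.eq_zero_iff_mem] at this

end main

end Groth.Agent.H8.PSKaehler
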